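import Mathlib
import Cfsg.Agent.Lib.helper7.CeB
import Cfsg.Agent.Lib.helper7.CEC.Defs
import Cfsg.Agent.Lib.helper7.CED.Defs
import Cfsg.Agent.Lib.helper17.STM.Defs
import Cfsg.Agent.Lib.helper17.STM.Defs2
import Cfsg.Agent.Lib.helper17.STM.Defs3

/-!
# Project CEM (designer helper17; part of the family for S2099, 10u): central extensions of a group with a Steinberg system of twisted type `²D` split — definitions

`σ : Γ →* G` is a central extension (`Cfsg.Agent.Lib.helper7.Ce.IsCE`) of a group `G` carrying a Steinberg system of type `²D` (`S : SysM F A B ι G`, project STM of helper17: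
long root elements `S.x a b (t : F)`, short root elements `S.xs a (u : Kq F A B)`).  `CL σ x y` (helper7 `CeA`): any two lifts of `x` and `y` commute.  `lf h g` (helper7 `CeB`): a chosen
lift of `g`.  `cm a b = a b a⁻¹ b⁻¹`, `cj g a = g a g⁻¹`.  Signed indices `a : ι ⊕ ι`, `ng`, `ab` as in `STC.Defs`; `ab a ≠ ab b` says `a ≠ b` and `a ≠ ng b`.  The index conditions
`I2`, `I3`, `I4`, `U3` are those of `Cfsg.Agent.Lib.helper7.CEC`; `HC`, `PB`, `PI`, `Ys`, `RootLift` (for the long roots, i.e. for `S.toSysD`) are those of `Cfsg.Agent.Lib.helper7.CED`.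
-/

set_option autoImplicit false

namespace Cfsg.Agent.Lib.helper17.CEM

open Cfsg.Agent.Lib.helper15.St2 Cfsg.Agent.Lib.helper7.Ce Cfsg.Agent.Lib.helper3.STC Cfsg.Agent.Lib.Lead.STD
  Cfsg.Agent.Lib.helper7.CEC Cfsg.Agent.Lib.helper7.CED Cfsg.Agent.Lib.helper17.STM

variable {F : Type*} [Field F] {A B : F} [Fact (∀ r : F, r ^ 2 ≠ -B + A * r)] {ι : Type*} {Γ G : Type*} [Group Γ] [Group G]

/-- all pairs (short root element, long root element) that commute by `SysM.comm_ls` have commuting lifts -/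
def HLS (S : SysM F A B ι G) (σ : Γ →* G) : Prop :=
  ∀ a c d : ι ⊕ ι, c ≠ d → c ≠ ng d → d ≠ a → c ≠ ng a → ∀ (t : Kq F A B) (u : F), CL σ (S.xs a t) (S.x c d u)

/-- the pairs of long root elements that commute by `SysD.sso` (the roots `e_a - e_b`, `e_a + e_b`) have commuting lifts -/
def HSO (S : SysM F A B ι G) (σ : Γ →* G) : Prop :=
  ∀ a b : ι ⊕ ι, ab a ≠ ab b → ∀ t u : F, CL σ (S.x a b t) (S.x b (ng a) u)

/-- A lift of the long root system to `Γ`. -/
structure LongLift (S : SysM F A B ι G) (σ : Γ →* G) where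
  P : SysD F ι Γ
  map : ∀ a b t, σ (P.x a b t) = S.x a b t

/-- the commutator of lifts of `x a b t` and `xs b u`: a lift of `xs a (t • u) * x a (ng b) (t * nm u)` -/
noncomputable def Zs (S : SysM F A B ι G) {σ : Γ →* G} (h : IsCE σ) (a b : ι ⊕ ι) (t : F) (u : Kq F A B) : Γ :=
  cm (lf h (S.x a b t)) (lf h (S.xs b u))

/-- `Zs` corrected by the lifted long root element: a lift of `xs a (t • u)` -/
noncomputable def Ds (S : SysM F A B ι G) {σ : Γ →* G} (h : IsCE σ) (L : LongLift S σ) (a b : ι ⊕ ι) (t : F) (u : Kq F A B) : Γ :=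
  Zs S h a b t u * (L.P.x a (ng b) (t * nm u))⁻¹

open Classical in
/-- the canonical lift of the short root element `xs a u`, through a chosen second index -/
noncomputable def XSs (S : SysM F A B ι G) {σ : Γ →* G} (h : IsCE σ) (L : LongLift S σ) (h2 : I2 ι) (a : ι ⊕ ι) (u : Kq F A B) : Γ :=
  Ds S h L a (Classical.choose (h2 a)) 1 u

end Cfsg.Agent.Lib.helper17.CEM
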